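import Cfsg.Agent.H495.KKL.Perm
import Cfsg.Agent.H613.KKL.Defs
import Cfsg.Agent.TypeM.FactsMcL
import Cfsg.Agent.TypeM.FactsLy

/-!
# S4546: the rows `E_McL` and `E_Ly` (helper495)

One class of involutions `t`, `C(t) = 2.A_n`, `n = 8, 11`, double transpositions lift to elements of order 4: an element of
odd order commuting with `D ≅ 2³` commutes with an element of order four.
-/

set_option autoImplicit false

namespace Cfsg.Agent.H495.KKL

open Subgroup Equiv Cfsg Cfsg.Agent.H613.KKL Cfsg.Agent.TypeM.Two Cfsg.Agent.SporRec.TwoAn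

universe u

theorem noCfg_of_mt {G : Type u} [Group G] {n : ℕ} (hn8 : 8 ≤ n) (hn11 : n ≤ 11) (L₀ : MT n G) : NoCfg G := by
  intro D x h
  have hDf : Finite D := Nat.finite_of_card_ne_zero (by rw [h.e8.card]; norm_num)
  -- an involution
  obtain ⟨z, hzD, hz1⟩ : ∃ z ∈ D, z ≠ 1 := by
    by_contra hcon
    push Not at hcon
    have h1 : D = ⊥ := (Subgroup.eq_bot_iff_forall D).2 hcon
    have h2 := h.e8.card
    rw [h1, Subgroup.card_bot] at h2
    norm_num at h2
  obtain ⟨L, hL⟩ := L₀.exists_rebase (h.e8.inv z hzD) hz1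
  have hab : ∀ d ∈ D, ∀ e ∈ D, d * e = e * d := by
    intro d hd e he
    have h1 := h.e8.inv _ (D.mul_mem hd he)
    have h2 := h.e8.inv _ hd
    have h3 := h.e8.inv _ he
    calc d * e = d * (d * e * (d * e)) * e := by rw [h1, mul_one]
      _ = (d * d) * e * d * (e * e) := by group
      _ = e * d := by rw [h2, h3, one_mul, mul_one]
  have hC : ∀ d ∈ D, d ∈ centralizer ({L.t} : Set G) := fun d hd => by
    rw [L.mem_iff, hL]
    exact hab d hd z hzD
  have hxC : x ∈ centralizer ({L.t} : Set G) := by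
    rw [L.mem_iff, hL]
    exact (h.comm z hzD).symm
  -- generators
  obtain ⟨d₁, hd₁, h1⟩ : ∃ d ∈ D, d ∉ ({1, z} : Set G) := by
    by_contra hcon
    push Not at hcon
    have h1 : (D : Set G) ⊆ {1, z} := fun d hd => hcon d hd
    have h2 := Set.ncard_le_ncard h1 (Set.toFinite _)
    have h3 : (D : Set G).ncard = 8 := h.e8.card
    have h4 := Set.ncard_insert_le (1 : G) {z}
    rw [Set.ncard_singleton] at h4
    omega
  obtain ⟨d₂, hd₂, h2⟩ : ∃ d ∈ D, d ∉ ({1, z, d₁, z * d₁} : Set G) := by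
    by_contra hcon
    push Not at hcon
    have h1 : (D : Set G) ⊆ {1, z, d₁, z * d₁} := fun d hd => hcon d hd
    have h2 := Set.ncard_le_ncard h1 (Set.toFinite _)
    have h3 : (D : Set G).ncard = 8 := h.e8.card
    have h4 := Set.ncard_insert_le (1 : G) {z, d₁, z * d₁}
    have h5 := Set.ncard_insert_le z {d₁, z * d₁}
    have h6 := Set.ncard_insert_le d₁ {z * d₁}
    rw [Set.ncard_singleton] at h6
    omega
  have h1' : d₁ ≠ 1 ∧ d₁ ≠ z := by simpa using h1
  have h2' : d₂ ≠ 1 ∧ d₂ ≠ z ∧ d₂ ≠ d₁ ∧ d₂ ≠ z * d₁ := by simpa using h2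
  have h3' : d₁ * d₂ ≠ 1 ∧ d₁ * d₂ ≠ z := by
    have e1 := h.e8.inv _ hd₁
    constructor
    · intro h3
      apply h2'.2.2.1
      calc d₂ = (d₁ * d₁) * d₂ := by rw [e1, one_mul]
        _ = d₁ * (d₁ * d₂) := by group
        _ = d₁ := by rw [h3, mul_one]
    · intro h3
      apply h2'.2.2.2
      calc d₂ = (d₁ * d₁) * d₂ := by rw [e1, one_mul]
        _ = d₁ * (d₁ * d₂) := by group
        _ = d₁ * z := by rw [h3]
        _ = z * d₁ := hab _ hd₁ _ hzD
  have hzt : (L.K.z : G) = z := by rw [L.hz, hL]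
  have sup : ∀ (d : G) (hd : d ∈ D), d ≠ 1 → d ≠ z → (L.K.π ⟨d, hC d hd⟩).support.card = 8 := by
    intro d hd hd1 hdz
    refine SporRec.LyType.card_support_eq_eight L.K (by rw [Fintype.card_fin]; omega) ?_ ?_ ?_
    · exact Subtype.ext (h.e8.inv d hd)
    · intro h4
      exact hd1 (congrArg Subtype.val h4)
    · intro h4
      apply hdz
      rw [← hzt, ← h4]
  set a := L.K.π ⟨d₁, hC d₁ hd₁⟩ with ha
  set b := L.K.π ⟨d₂, hC d₂ hd₂⟩ with hb
  set ρ := L.K.π ⟨x, hxC⟩ with hρ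
  have aa : a * a = 1 := by
    rw [ha, ← map_mul, show (⟨d₁, hC d₁ hd₁⟩ : ↥(centralizer ({L.t} : Set G))) * ⟨d₁, hC d₁ hd₁⟩ = 1 from
      Subtype.ext (h.e8.inv _ hd₁), map_one]
  have bb : b * b = 1 := by
    rw [hb, ← map_mul, show (⟨d₂, hC d₂ hd₂⟩ : ↥(centralizer ({L.t} : Set G))) * ⟨d₂, hC d₂ hd₂⟩ = 1 from
      Subtype.ext (h.e8.inv _ hd₂), map_one]
  have ab : a * b = b * a := by
    rw [ha, hb, ← map_mul, ← map_mul]
    exact congrArg _ (Subtype.ext (hab _ hd₁ _ hd₂))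
  have sa : a.support.card = 8 := sup _ hd₁ h1'.1 h1'.2
  have sb : b.support.card = 8 := sup _ hd₂ h2'.1 h2'.2.1
  have sc : (a * b).support.card = 8 := by
    have := sup _ (D.mul_mem hd₁ hd₂) h3'.1 h3'.2
    rw [ha, hb, ← map_mul]
    exact this
  have ra : ρ * a = a * ρ := by
    rw [ha, hρ, ← map_mul, ← map_mul]
    exact congrArg _ (Subtype.ext (h.comm _ hd₁).symm)
  have rb : ρ * b = b * ρ := by
    rw [hb, hρ, ← map_mul, ← map_mul]
    exact congrArg _ (Subtype.ext (h.comm _ hd₂).symm)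
  have hodd : Odd (orderOf ρ) := by
    have h4 : orderOf ρ ∣ orderOf x := by
      have := orderOf_map_dvd L.K.π (⟨x, hxC⟩ : ↥(centralizer ({L.t} : Set G)))
      rwa [Subgroup.orderOf_mk] at this
    exact h.odd.of_dvd_nat h4
  have fix : ∀ i, a i ≠ i → ρ i = i := fun i hi =>
    fix_of_comm (by rw [Fintype.card_fin]; exact hn11) aa bb ab sa sb sc hodd ra rb (Or.inl hi)
  -- four points
  obtain ⟨f⟩ : Nonempty (Fin 4 ↪ ↥a.support) :=
    Function.Embedding.nonempty_of_card_le (by rw [Fintype.card_coe, sa, Fintype.card_fin]; norm_num)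
  have fne : ∀ i j : Fin 4, i ≠ j → ((f i : ↥a.support) : Fin n) ≠ (f j : ↥a.support) := fun i j hij h4 =>
    hij (f.injective (Subtype.ext h4))
  have ffix : ∀ i : Fin 4, ρ (f i : ↥a.support) = (f i : ↥a.support) := fun i => fix _ (Perm.mem_support.1 (f i).2)
  obtain ⟨q, hq⟩ : ∃ q, L.K.π q = swap ((f 0 : ↥a.support) : Fin n) (f 1 : ↥a.support) *
      swap ((f 2 : ↥a.support) : Fin n) (f 3 : ↥a.support) := by
    have h4 : swap ((f 0 : ↥a.support) : Fin n) (f 1 : ↥a.support) *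
      swap ((f 2 : ↥a.support) : Fin n) (f 3 : ↥a.support) ∈ L.K.π.range := by
      rw [L.K.range_eq, Perm.mem_alternatingGroup, Perm.sign_mul, Perm.sign_swap (fne 0 1 (by decide)),
        Perm.sign_swap (fne 2 3 (by decide))]
      norm_num
    exact h4
  have hqq : q * q = L.K.z := L.K.dbl _ _ _ _ (fne 0 1 (by decide)) (fne 0 2 (by decide)) (fne 0 3 (by decide))
    (fne 1 2 (by decide)) (fne 1 3 (by decide)) (fne 2 3 (by decide)) q hq
  have hqρ : L.K.π q * ρ = ρ * L.K.π q := by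
    rw [hq]
    have e1 : ρ * swap ((f 0 : ↥a.support) : Fin n) (f 1 : ↥a.support) =
        swap ((f 0 : ↥a.support) : Fin n) (f 1 : ↥a.support) * ρ := by
      rw [Equiv.mul_swap_eq_swap_mul, ffix, ffix]
    have e2 : ρ * swap ((f 2 : ↥a.support) : Fin n) (f 3 : ↥a.support) =
        swap ((f 2 : ↥a.support) : Fin n) (f 3 : ↥a.support) * ρ := by
      rw [Equiv.mul_swap_eq_swap_mul, ffix, ffix]
    rw [mul_assoc, ← e2, ← mul_assoc, ← e1, mul_assoc]
  -- `q` commutes with `x`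
  have hqx : (q : G) * x = x * q := by
    have h4 : L.K.π (q * ⟨x, hxC⟩ * q⁻¹ * ⟨x, hxC⟩⁻¹) = 1 := by
      rw [map_mul, map_mul, map_mul, map_inv, map_inv, ← hρ, hqρ]
      group
    rcases (L.K.ker _).1 h4 with h5 | h5
    · have h6 := congrArg Subtype.val h5
      have h7 : (q : G) * x * (q : G)⁻¹ * x⁻¹ = 1 := h6
      calc (q : G) * x = ((q : G) * x * (q : G)⁻¹ * x⁻¹) * (x * q) := by group
        _ = x * q := by rw [h7, one_mul]
    · exfalso
      have h6 := congrArg Subtype.val h5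
      have h7 : (q : G) * x * (q : G)⁻¹ * x⁻¹ = z := by rw [← hzt]; exact h6
      have h8 : (q : G) * x * (q : G)⁻¹ = z * x := by
        calc (q : G) * x * (q : G)⁻¹ = ((q : G) * x * (q : G)⁻¹ * x⁻¹) * x := by group
          _ = z * x := by rw [h7]
      have h9 : ((q : G) * x * (q : G)⁻¹) ^ orderOf x = 1 := by
        rw [conj_pow, pow_orderOf_eq_one]
        group
      rw [h8, (show Commute z x from h.comm z hzD).mul_pow, pow_orderOf_eq_one, mul_one] at h9
      obtain ⟨k, hk⟩ := h.odd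
      rw [hk, pow_succ, pow_mul, pow_two, h.e8.inv z hzD, one_pow, one_mul] at h9
      exact hz1 h9
  -- the Sylow property
  have hq4 : ((q : G)) ^ 2 = z := by
    rw [pow_two, ← hzt, ← hqq]
    rfl
  obtain ⟨c, -, hc⟩ := h.syl (zpowers (q : G)) (by
      have h4 : (q : G) ^ 2 ^ 2 = 1 := by
        rw [show (2 : ℕ) ^ 2 = 2 * 2 by norm_num, pow_mul, hq4, pow_two, h.e8.inv z hzD]
      rintro ⟨g, k, rfl⟩
      refine ⟨2, Subtype.ext ?_⟩
      show ((q : G) ^ k) ^ 2 ^ 2 = 1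
      rw [← zpow_natCast, ← zpow_mul, mul_comm, zpow_mul, zpow_natCast, h4, one_zpow]) (by
      rintro g ⟨k, rfl⟩
      exact ((show Commute (q : G) x from hqx).zpow_left k).eq)
  have h4 := h.e8.inv _ (hc q (mem_zpowers _))
  have h5 : c * z * c⁻¹ = 1 := by
    rw [← hq4, ← conj_pow, pow_two]
    exact h4
  apply hz1
  calc z = c⁻¹ * (c * z * c⁻¹) * c := by group
    _ = 1 := by rw [h5]; group

/-- **row `McL`** -/
theorem E_McL {S : Type u} [Group S] (h : Spor.IsoMcL S) : NoCfg S := by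
  obtain ⟨-, -, -, ⟨L⟩⟩ := TypeM.FactsMcL.facts h
  exact noCfg_of_mt (by norm_num) (by norm_num) L

/-- **row `Ly`** -/
theorem E_Ly {S : Type u} [Group S] (h : Spor.IsoLy S) : NoCfg S := by
  obtain ⟨-, -, -, ⟨L⟩⟩ := TypeM.FactsLy.facts h
  exact noCfg_of_mt (by norm_num) (by norm_num) L

end Cfsg.Agent.H495.KKL
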