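import Mathlib

/-!
# Permutations of odd order commuting with a four-group (helper495, for S4546)

`a, b` commuting involutions on at most 11 points such that `a`, `b`, `a * b` move exactly 8 points each: a permutation of odd
order commuting with `a` and `b` fixes all points moved by `a` or `b`.
-/

set_option autoImplicit false

namespace Cfsg.Agent.H495.KKL

open Equiv

variable {α : Type*} [Fintype α] [DecidableEq α]


omit [Fintype α] [DecidableEq α] in
theorem fix_of_even {ρ : Perm α} (hρ : Odd (orderOf ρ)) {i : α} {m : ℕ} (hm : m = 1 ∨ m = 2)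
    (h : (ρ ^ (2 * m)) i = i) : ρ i = i := by
  obtain ⟨k, hk⟩ := hρ
  have key : ∀ j : ℕ, ((ρ ^ (2 * m)) ^ j) i = i := by
    intro j
    induction j with
    | zero => rw [pow_zero]; rfl
    | succ j ih => rw [pow_succ, Perm.mul_apply, h, ih]
  have h4 : ∀ j : ℕ, (ρ ^ (4 * j)) i = i := by
    intro j
    rcases hm with rfl | rfl
    · have h1 := key (2 * j)
      rw [← pow_mul] at h1
      rw [show 4 * j = 2 * 1 * (2 * j) by ring]
      exact h1
    · have h1 := key j
      rw [← pow_mul] at h1
      exact h1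
  have ho : ρ ^ (2 * k + 1) = 1 := by rw [← hk]; exact pow_orderOf_eq_one ρ
  -- `(2 k + 1) ^ 2 = 1` modulo 4
  have h5 : (ρ ^ (4 * (k * k + k) + 1)) i = i := by
    rw [show 4 * (k * k + k) + 1 = (2 * k + 1) * (2 * k + 1) by ring, pow_mul, ho, one_pow]
    rfl
  rw [pow_succ', Perm.mul_apply, h4] at h5
  exact h5

theorem key_ne {ρ : Perm α} (hρ : Odd (orderOf ρ)) {i : α} (hi : ρ i ≠ i) {v : Perm α} (hv : v * v = 1)
    (hc : ρ * v = v * ρ) {m : ℕ} (hm : m = 1 ∨ m = 2) : (ρ ^ m) i ≠ v i := by
  intro h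
  apply hi
  refine fix_of_even hρ hm ?_
  have h1 : Commute (ρ ^ m) v := (show Commute ρ v from hc).pow_left m
  rw [two_mul, pow_add, Perm.mul_apply, h, ← Perm.mul_apply, h1.eq, Perm.mul_apply, h, ← Perm.mul_apply, hv]
  rfl

/-- the elements of the four-group -/
def el (a b : Perm α) (p : Bool × Bool) : Perm α := (cond p.1 a 1) * (cond p.2 b 1)

section

variable {a b : Perm α} (ha : a * a = 1) (hb : b * b = 1) (hab : a * b = b * a)
include ha hb hab

omit [Fintype α] [DecidableEq α] in
theorem el_mul (p q : Bool × Bool) : el a b p * el a b q = el a b (xor p.1 q.1, xor p.2 q.2) := by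
  obtain ⟨p1, p2⟩ := p
  obtain ⟨q1, q2⟩ := q
  have h1 : ∀ x : Perm α, a * (a * x) = x := fun x => by rw [← mul_assoc, ha, one_mul]
  have h3 : b * a = a * b := hab.symm
  have h4 : ∀ x : Perm α, b * (a * x) = a * (b * x) := fun x => by rw [← mul_assoc, h3, mul_assoc]
  cases p1 <;> cases p2 <;> cases q1 <;> cases q2 <;>
    simp [el, mul_assoc, ha, hb, h1, h3, h4]

omit [Fintype α] [DecidableEq α] in
theorem el_sq (p : Bool × Bool) : el a b p * el a b p = 1 := by
  rw [el_mul ha hb hab]
  simp [el]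

omit [Fintype α] [DecidableEq α] in
/-- two points of an orbit -/
theorem eq_of_el {p q : Bool × Bool} {j k : α} (h : el a b p j = el a b q k) : ∃ r, k = el a b r j := by
  refine ⟨(xor q.1 p.1, xor q.2 p.2), ?_⟩
  rw [← el_mul ha hb hab, Perm.mul_apply, h, ← Perm.mul_apply, el_sq ha hb hab]
  rfl

omit [Fintype α] in
theorem card_orb {j : α} (h1 : a j ≠ j) (h2 : b j ≠ j) (h3 : (a * b) j ≠ j) :
    (Finset.univ.image fun p => el a b p j).card = 4 := by
  rw [Finset.card_image_of_injective]
  · rfl
  · intro p q h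
    have h4 : (el a b q * el a b p) j = j := by
      rw [Perm.mul_apply]
      show el a b q (el a b p j) = j
      rw [show el a b p j = el a b q j from h, ← Perm.mul_apply, el_sq ha hb hab]
      rfl
    rw [el_mul ha hb hab] at h4
    obtain ⟨p1, p2⟩ := p
    obtain ⟨q1, q2⟩ := q
    cases p1 <;> cases p2 <;> cases q1 <;> cases q2 <;> simp [el] at h4 ⊢
    all_goals first
      | exact h1 h4
      | exact h2 h4
      | exact h3 h4

end

/-- **the points moved by the four-group are fixed** -/
theorem fix_of_comm (hα : Fintype.card α ≤ 11) {a b ρ : Perm α} (ha : a * a = 1) (hb : b * b = 1) (hab : a * b = b * a)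
    (sa : a.support.card = 8) (sb : b.support.card = 8) (sc : (a * b).support.card = 8) (hρ : Odd (orderOf ρ))
    (ra : ρ * a = a * ρ) (rb : ρ * b = b * ρ) {i : α} (hi : a i ≠ i ∨ b i ≠ i) : ρ i = i := by
  by_contra hne
  -- a fixed point of an involution
  have small : ∀ w u : Perm α, w.support.card = 8 → u * u = 1 → w * u = u * w → ρ * w = w * ρ → ρ * u = u * ρ →
      w i = i → u i ≠ i → False := by
    intro w u hw hu hwu hρw hρu hwi hui
    have hu' : ∀ x, u (u x) = x := fun x => by rw [← Perm.mul_apply, hu]; rfl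
    have e1 : ρ i ≠ u i := by
      have := key_ne hρ hne hu hρu (m := 1) (Or.inl rfl)
      rwa [pow_one] at this
    have e2 : u (ρ i) ≠ i := fun h => e1 (by rw [← h, hu', h])
    have e3 : u (ρ i) ≠ u i := fun h => hne (u.injective h)
    have e4 : u (ρ i) ≠ ρ i := by
      intro h
      rw [← Perm.mul_apply, ← hρu, Perm.mul_apply] at h
      exact hui (ρ.injective h)
    have hc : ({i, u i, ρ i, u (ρ i)} : Finset α).card = 4 := by
      rw [Finset.card_insert_of_notMem, Finset.card_insert_of_notMem, Finset.card_insert_of_notMem,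
        Finset.card_singleton]
      · simpa using e4.symm
      · simp only [Finset.mem_insert, Finset.mem_singleton, not_or]
        exact ⟨e1.symm, e3.symm⟩
      · simp only [Finset.mem_insert, Finset.mem_singleton, not_or]
        exact ⟨hui.symm, fun h => hne h.symm, e2.symm⟩
    have hs : ({i, u i, ρ i, u (ρ i)} : Finset α) ⊆ w.supportᶜ := by
      have w2 : w (u i) = u i := by rw [← Perm.mul_apply, hwu, Perm.mul_apply, hwi]
      have w3 : w (ρ i) = ρ i := by rw [← Perm.mul_apply, ← hρw, Perm.mul_apply, hwi]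
      have w4 : w (u (ρ i)) = u (ρ i) := by rw [← Perm.mul_apply, hwu, Perm.mul_apply, w3]
      intro x hx
      rw [Finset.mem_compl, Perm.mem_support, not_not]
      simp only [Finset.mem_insert, Finset.mem_singleton] at hx
      rcases hx with rfl | rfl | rfl | rfl
      · exact hwi
      · exact w2
      · exact w3
      · exact w4
    have := Finset.card_le_card hs
    rw [Finset.card_compl, hw, hc] at this
    omega
  have cc : (a * b) * (a * b) = 1 := by
    calc (a * b) * (a * b) = a * (b * a) * b := by group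
      _ = a * (a * b) * b := by rw [hab]
      _ = (a * a) * (b * b) := by group
      _ = 1 := by rw [ha, hb, one_mul]
  have ca : a * (a * b) = (a * b) * a := by
    calc a * (a * b) = a * (b * a) := by rw [hab]
      _ = a * b * a := by group
  have cb : b * (a * b) = (a * b) * b := by
    calc b * (a * b) = (b * a) * b := by group
      _ = a * b * b := by rw [hab]
  have rc : ρ * (a * b) = (a * b) * ρ := by
    rw [← mul_assoc, ra, mul_assoc, rb, mul_assoc]
  by_cases h1 : a i = i
  · have h2 : b i ≠ i := hi.resolve_left (fun h => h h1)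
    exact small a b sa hb hab ra rb h1 h2
  by_cases h2 : b i = i
  · exact small b a sb ha hab.symm rb ra h2 h1
  by_cases h3 : (a * b) i = i
  · exact small (a * b) a sc ha ca.symm rc ra h3 h1
  -- three regular orbits
  have cr : ∀ p, ρ * el a b p = el a b p * ρ := by
    intro p
    obtain ⟨p1, p2⟩ := p
    cases p1 <;> cases p2 <;> simp [el, ra, rb, rc]
  have cm : ∀ (m : ℕ) (j : α) (w : Perm α), ρ * w = w * ρ → w j ≠ j → w ((ρ ^ m) j) ≠ (ρ ^ m) j := by
    intro m j w hw hj h
    have h4 : Commute (ρ ^ m) w := (show Commute ρ w from hw).pow_left m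
    rw [← Perm.mul_apply, ← h4.eq, Perm.mul_apply] at h
    exact hj ((ρ ^ m).injective h)
  let O : α → Finset α := fun j => Finset.univ.image fun p => el a b p j
  have hO : ∀ m : ℕ, (O ((ρ ^ m) i)).card = 4 := fun m =>
    card_orb ha hb hab (cm m i a ra h1) (cm m i b rb h2) (cm m i (a * b) rc h3)
  have hdis : ∀ j k : α, (∀ r, k ≠ el a b r j) → Disjoint (O j) (O k) := by
    intro j k h
    rw [Finset.disjoint_left]
    intro x hx hx'
    obtain ⟨p, -, hp⟩ := Finset.mem_image.1 hx
    obtain ⟨q, -, hq⟩ := Finset.mem_image.1 hx'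
    obtain ⟨r, hr⟩ := eq_of_el ha hb hab (show el a b p j = el a b q k from hp.trans hq.symm)
    exact h r hr
  have k1 : ∀ r, (ρ ^ 1) i ≠ el a b r i := fun r => key_ne hρ hne (el_sq ha hb hab r) (cr r) (Or.inl rfl)
  have k2 : ∀ r, (ρ ^ 2) i ≠ el a b r i := fun r => key_ne hρ hne (el_sq ha hb hab r) (cr r) (Or.inr rfl)
  have k3 : ∀ r, (ρ ^ 2) i ≠ el a b r ((ρ ^ 1) i) := by
    intro r h
    apply k1 r
    rw [pow_one] at h ⊢
    rw [pow_two, Perm.mul_apply, ← Perm.mul_apply (el a b r), ← cr r, Perm.mul_apply] at h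
    exact ρ.injective h
  have k0 : (ρ ^ 0) i = i := rfl
  have d01 : Disjoint (O ((ρ ^ 0) i)) (O ((ρ ^ 1) i)) := hdis _ _ (by rw [k0]; exact k1)
  have d02 : Disjoint (O ((ρ ^ 0) i)) (O ((ρ ^ 2) i)) := hdis _ _ (by rw [k0]; exact k2)
  have d12 : Disjoint (O ((ρ ^ 1) i)) (O ((ρ ^ 2) i)) := hdis _ _ k3
  have hcard : (O ((ρ ^ 0) i) ∪ O ((ρ ^ 1) i) ∪ O ((ρ ^ 2) i)).card = 12 := by
    rw [Finset.card_union_of_disjoint (Finset.disjoint_union_left.2 ⟨d02, d12⟩), Finset.card_union_of_disjoint d01,
      hO, hO, hO]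
  have := Finset.card_le_univ (O ((ρ ^ 0) i) ∪ O ((ρ ^ 1) i) ∪ O ((ρ ^ 2) i))
  omega

end Cfsg.Agent.H495.KKL
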